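import Groth.Agent.Htor.H250.TensCohPc
import Groth.Agent.FormalB.PullCoh
import Groth.Agent.PerfB.FlatPull
import Groth.Agent.S0910
import Groth.Prelude.Def_HTor

/-!
# Local hypertor sheaves of complexes with coherent cohomology are coherent
-/

set_option autoImplicit false
universe u
open CategoryTheory CategoryTheory.Limits AlgebraicGeometry
attribute [local instance] HasDerivedCategory.standard

namespace Groth.Agent.Htor.H250.LocalTor

open Groth.Agent.PerfA Groth.Agent.PerfA.CohSerre

variable {X Y Z : Scheme.{u}}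

/-- Bounded above complexes with coherent cohomology on a locally Noetherian scheme are
`m`-pseudo-coherent for all `m`. -/
theorem isPseudoCoherentD_of_isCohD [IsLocallyNoetherian X] (K : DCoh.D X) (b : ℤ) (hb : K.IsLE b)
    (hK : DCoh.IsCohD K) (m : ℤ) : DCoh.IsPseudoCoherentD m K :=
  Groth.Agent.PerfB.PCNoeth.pc_of_isCoh (b - m + 1).toNat K b m hb (by omega) (fun i _ => hK i)

/-- A complex vanishing in degrees `> b` is in `D^{≤ b}`. -/
theorem isLE_toD (P : CochainComplex X.Modules ℤ) (b : ℤ) (h : ∀ i : ℤ, b < i → IsZero (P.X i)) :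
    (DCoh.toD X P).IsLE b := by
  have : P.IsStrictlyLE b := (CochainComplex.isStrictlyLE_iff _ _).2 h
  infer_instance

/-- Termwise pullback along a flat morphism preserves complexes with coherent cohomology. -/
theorem isCohD_pullCx (h : Z ⟶ Y) [Flat h] (Q : CochainComplex Y.Modules ℤ)
    (hQ : DCoh.IsCohD (DCoh.toD Y Q)) : DCoh.IsCohD (DCoh.toD Z ((HTor.pullCx h).obj Q)) := by
  have : PreservesFiniteColimits (Scheme.Modules.pullback h) := inferInstance
  intro i
  refine isCoh_of_iso ?_ (Groth.Agent.FormalB.PullCoh.isCoh_pullback h (hQ i))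
  exact ((ExactD.mapHomology (Scheme.Modules.pullback h) i).app (DCoh.toD Y Q)).symm ≪≫
    (DerivedCategory.homologyFunctor _ i).mapIso
      ((Scheme.Modules.pullback h).mapDerivedCategoryFactors.app Q)

/-- Derived pullback of a bounded above complex with coherent cohomology, tensored with a bounded above
complex with coherent cohomology, has coherent cohomology. -/
theorem isCohD_LTensorCx_Lpull [IsLocallyNoetherian X] [IsLocallyNoetherian Z] (h : Z ⟶ X)
    [DCoh.HasLpull h] (P : DCoh.D X) (b : ℤ) (hb : P.IsLE b) (hP : DCoh.IsCohD P)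
    (K : CochainComplex Z.Modules ℤ) [DCoh.HasLTensorCx K] (c : ℤ) (hc : (DCoh.toD Z K).IsLE c)
    (hK : DCoh.IsCohD (DCoh.toD Z K)) :
    DCoh.IsCohD ((DCoh.LTensorCx K).obj ((DCoh.Lpull h).obj P)) :=
  Groth.Agent.Htor.H250.TensCohPc.isCohD_LTensorCx K c hc hK _
    (fun m => Groth.Agent.S0910.result h m _ (isPseudoCoherentD_of_isCohD P b hb hP m))

/-- The form of `S3542`. -/
theorem isCohD_localTor (X Y S : Scheme.{u}) (f : X ⟶ S) (g : Y ⟶ S) [Flat f]
    [IsLocallyNoetherian X] [IsLocallyNoetherian (pullback f g)]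
    (P : CochainComplex X.Modules ℤ) (Q : CochainComplex Y.Modules ℤ)
    (bP : ∃ b : ℤ, ∀ i : ℤ, b < i → IsZero (P.X i)) (bQ : ∃ b : ℤ, ∀ i : ℤ, b < i → IsZero (Q.X i))
    (hP : DCoh.IsCohD (DCoh.toD X P)) (hQ : DCoh.IsCohD (DCoh.toD Y Q))
    [DCoh.HasLpull (pullback.fst f g)] [DCoh.HasLTensorCx ((HTor.pullCx (pullback.snd f g)).obj Q)] :
    DCoh.IsCohD ((DCoh.LTensorCx ((HTor.pullCx (pullback.snd f g)).obj Q)).obj
      ((DCoh.Lpull (pullback.fst f g)).obj (DCoh.toD X P))) := by
  obtain ⟨b, hb⟩ := bP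
  obtain ⟨c, hc⟩ := bQ
  refine isCohD_LTensorCx_Lpull (pullback.fst f g) _ b (isLE_toD P b hb) hP _ c
    (isLE_toD _ c fun i hi => (Scheme.Modules.pullback (pullback.snd f g)).map_isZero (hc i hi))
    (isCohD_pullCx (pullback.snd f g) Q hQ)

end Groth.Agent.Htor.H250.LocalTor
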